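import Cfsg.Agent.LieClassical.SympCount

/-!
# The isometry group of a nondegenerate alternating form

* `isomGroup B`, `card_isomGroup`;
* `even_finrank`;
* `nondeg_fix` : the fixed space of an isometry of order prime to the characteristic is nondegenerate;
* `glue` : isometries of an orthogonal decomposition.
-/

set_option autoImplicit false

namespace Cfsg.Agent.H727.GW

open Module
open Cfsg.Agent.LieClassical.SympCount

universe u v

variable {F : Type u} [Field F] {V : Type v} [AddCommGroup V] [Module F V]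

/-- The isometry group. -/
def isomGroup (B : LinearMap.BilinForm F V) : Subgroup (V ≃ₗ[F] V) where
  carrier := {g | ∀ u v, B (g u) (g v) = B u v}
  mul_mem' {a b} ha hb u v := by
    show B (a (b u)) (a (b v)) = B u v
    rw [ha, hb]
  one_mem' _ _ := rfl
  inv_mem' {a} ha u v := by
    show B (a.symm u) (a.symm v) = B u v
    rw [← ha, LinearEquiv.apply_symm_apply, LinearEquiv.apply_symm_apply]

theorem mem_isomGroup {B : LinearMap.BilinForm F V} {g : V ≃ₗ[F] V} :
    g ∈ isomGroup B ↔ ∀ u v, B (g u) (g v) = B u v := Iff.rfl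

/-- The vectors of a hyperbolic tuple. -/
def HypTuple.vec {B : LinearMap.BilinForm F V} {m : ℕ} (p : HypTuple B m) : Fin m ⊕ Fin m → V :=
  Sum.elim (fun i => (p.1 i).1) (fun i => (p.1 i).2)

theorem HypTuple.linearIndependent {B : LinearMap.BilinForm F V} (hB : ∀ x, B x x = 0) {m : ℕ}
    (p : HypTuple B m) : LinearIndependent F (HypTuple.vec p) := by
  rw [Fintype.linearIndependent_iff]
  intro c hc
  rw [Fintype.sum_sum_type] at hc
  have h1 : ∀ j, c (Sum.inl j) = 0 := by
    intro j
    have h2 := congrArg (fun v => B v (p.1 j).2) hc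
    simp only [map_add, map_sum, LinearMap.add_apply, LinearMap.sum_apply, map_smul, LinearMap.smul_apply,
      HypTuple.vec, Sum.elim_inl, Sum.elim_inr, map_zero, LinearMap.zero_apply, (p.2 _ j).2.2,
      (p.2 _ j).2.1, smul_zero, Finset.sum_const_zero, add_zero, smul_eq_mul, mul_ite, mul_one, mul_zero,
      Finset.sum_ite_eq', Finset.mem_univ, if_true] at h2
    exact h2
  have h1' : ∀ j, c (Sum.inr j) = 0 := by
    intro j
    have h2 := congrArg (fun v => B (p.1 j).1 v) hc
    simp only [map_add, map_sum, map_smul,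
      HypTuple.vec, Sum.elim_inl, Sum.elim_inr, map_zero, (p.2 j _).2.2,
      (p.2 j _).1, smul_zero, Finset.sum_const_zero, zero_add, smul_eq_mul, mul_ite, mul_one, mul_zero,
      Finset.sum_ite_eq, Finset.mem_univ, if_true] at h2
    exact h2
  rintro (j | j)
  · exact h1 j
  · exact h1' j

/-- The basis of a hyperbolic tuple. -/
noncomputable def HypTuple.basis [FiniteDimensional F V] {B : LinearMap.BilinForm F V}
    (hB : ∀ x, B x x = 0) {m : ℕ} (hr : finrank F V = 2 * m) (p : HypTuple B m) :
    Basis (Fin m ⊕ Fin m) F V :=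
  basisOfLinearIndependentOfCardEqFinrank' (HypTuple.vec p) (HypTuple.linearIndependent hB p) (by
    rw [hr, Fintype.card_sum, Fintype.card_fin, two_mul])

theorem HypTuple.basis_apply [FiniteDimensional F V] {B : LinearMap.BilinForm F V}
    (hB : ∀ x, B x x = 0) {m : ℕ} (hr : finrank F V = 2 * m) (p : HypTuple B m) (i : Fin m ⊕ Fin m) :
    HypTuple.basis hB hr p i = HypTuple.vec p i := by
  rw [HypTuple.basis, coe_basisOfLinearIndependentOfCardEqFinrank']

theorem HypTuple.gram {B : LinearMap.BilinForm F V} (hB : ∀ x, B x x = 0) {m : ℕ} (p q : HypTuple B m)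
    (i j : Fin m ⊕ Fin m) : B (HypTuple.vec p i) (HypTuple.vec p j) =
      B (HypTuple.vec q i) (HypTuple.vec q j) := by
  rcases i with i | i <;> rcases j with j | j
  · exact ((p.2 i j).1).trans ((q.2 i j).1).symm
  · exact ((p.2 i j).2.2).trans ((q.2 i j).2.2).symm
  · show B (p.1 i).2 (p.1 j).1 = B (q.1 i).2 (q.1 j).1
    rw [alt_swap B hB, alt_swap B hB (q.1 i).2, (p.2 j i).2.2, (q.2 j i).2.2]
  · exact ((p.2 i j).2.1).trans ((q.2 i j).2.1).symm

/-- The image of a hyperbolic tuple. -/
def HypTuple.map {B : LinearMap.BilinForm F V} {m : ℕ} (g : isomGroup B) (p : HypTuple B m) :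
    HypTuple B m :=
  ⟨fun i => (g.1 (p.1 i).1, g.1 (p.1 i).2), fun i j => by
    refine ⟨?_, ?_, ?_⟩
    · exact (g.2 _ _).trans (p.2 i j).1
    · exact (g.2 _ _).trans (p.2 i j).2.1
    · exact (g.2 _ _).trans (p.2 i j).2.2⟩

theorem card_isomGroup_eq_hypTuple [Fintype F] [FiniteDimensional F V] (B : LinearMap.BilinForm F V)
    (hB : ∀ x, B x x = 0) {m : ℕ} (hr : finrank F V = 2 * m) (p : HypTuple B m) :
    Nat.card (isomGroup B) = Nat.card (HypTuple B m) := by
  refine Nat.card_congr (Equiv.ofBijective (fun g => HypTuple.map g p) ⟨?_, ?_⟩)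
  · intro g h hgh
    have hgh' : HypTuple.map g p = HypTuple.map h p := hgh
    apply Subtype.ext
    apply (HypTuple.basis hB hr p).ext'
    intro i
    rw [HypTuple.basis_apply]
    rcases i with i | i
    · exact congrArg (fun t : HypTuple B m => (t.1 i).1) hgh'
    · exact congrArg (fun t : HypTuple B m => (t.1 i).2) hgh'
  · intro q
    set bp := HypTuple.basis hB hr p with hbp
    set bq := HypTuple.basis hB hr q with hbq
    let g : V ≃ₗ[F] V := bp.equiv bq (Equiv.refl _)
    have hg : ∀ i, g (bp i) = bq i := fun i => by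
      simp only [g, Basis.equiv_apply, Equiv.refl_apply]
    have hgm : g ∈ isomGroup B := by
      have h1 : B.compl₁₂ (g : V →ₗ[F] V) (g : V →ₗ[F] V) = B := by
        refine LinearMap.BilinForm.ext_basis bp fun i j => ?_
        show B (g (bp i)) (g (bp j)) = B (bp i) (bp j)
        rw [hg, hg, hbp, hbq, HypTuple.basis_apply, HypTuple.basis_apply, HypTuple.basis_apply,
          HypTuple.basis_apply]
        exact HypTuple.gram hB q p i j
      intro u v
      exact congrArg (fun b : LinearMap.BilinForm F V => b u v) h1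
    refine ⟨⟨g, hgm⟩, Subtype.ext (funext fun i => Prod.ext ?_ ?_)⟩
    · have := hg (Sum.inl i)
      rw [hbp, hbq, HypTuple.basis_apply, HypTuple.basis_apply] at this
      exact this
    · have := hg (Sum.inr i)
      rw [hbp, hbq, HypTuple.basis_apply, HypTuple.basis_apply] at this
      exact this

/-- The number of hyperbolic tuples. -/
theorem card_hypTuple' [Fintype F] [FiniteDimensional F V] (B : LinearMap.BilinForm F V)
    (hB : ∀ x, B x x = 0) (hnd : ∀ x, (∀ y, B x y = 0) → x = 0) {m : ℕ} (hr : finrank F V = 2 * m) :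
    Nat.card (HypTuple B m) =
      Fintype.card F ^ (m ^ 2) * ∏ i ∈ Finset.range m, (Fintype.card F ^ (2 * (i + 1)) - 1) := by
  rw [card_hypTuple m V B hB hnd hr, ← card_symplecticGroup, Nat.card_congr (matEquiv m F),
    card_hypTuple m _ _ (stdForm_self m) (stdForm_nondeg m) (by simp [two_mul])]

/-- **The order of the isometry group.** -/
theorem card_isomGroup [Fintype F] [FiniteDimensional F V] (B : LinearMap.BilinForm F V)
    (hB : ∀ x, B x x = 0) (hnd : ∀ x, (∀ y, B x y = 0) → x = 0) {m : ℕ} (hr : finrank F V = 2 * m) :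
    Nat.card (isomGroup B) =
      Fintype.card F ^ (m ^ 2) * ∏ i ∈ Finset.range m, (Fintype.card F ^ (2 * (i + 1)) - 1) := by
  have h1 := card_hypTuple' B hB hnd hr
  have h2 : Nat.card (HypTuple B m) ≠ 0 := by
    rw [h1]
    have hq : 1 < Fintype.card F := Fintype.one_lt_card
    refine mul_ne_zero (pow_ne_zero _ (by omega)) (Finset.prod_ne_zero_iff.2 fun i _ => ?_)
    have : 1 < Fintype.card F ^ (2 * (i + 1)) := Nat.one_lt_pow (by omega) hq
    omega
  obtain ⟨⟨p⟩, -⟩ := Nat.card_ne_zero.1 h2
  rw [card_isomGroup_eq_hypTuple B hB hr p, h1]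

/-- Nondegenerate alternating forms live in even dimension. -/
theorem even_finrank : ∀ (n : ℕ) (V : Type v) [AddCommGroup V] [Module F V] [FiniteDimensional F V]
    (B : LinearMap.BilinForm F V), (∀ x, B x x = 0) → (∀ x, (∀ y, B x y = 0) → x = 0) →
    finrank F V = n → Even n := by
  intro n
  induction n using Nat.strong_induction_on with
  | _ n ih =>
    intro V _ _ _ B hB hnd hr
    rcases Nat.eq_zero_or_pos n with h | h
    · rw [h]; exact Even.zero
    · have : Nontrivial V := Module.nontrivial_of_finrank_pos (R := F) (by omega)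
      obtain ⟨v, hv⟩ := exists_ne (0 : V)
      obtain ⟨w, hw⟩ : ∃ w, B v w ≠ 0 := by
        by_contra hno
        push Not at hno
        exact hv (hnd v hno)
      have h1 : B v ((B v w)⁻¹ • w) = 1 := by rw [map_smul, smul_eq_mul, inv_mul_cancel₀ hw]
      have h2 := finrank_perp B hB h1
      have h3 := ih (finrank F (perp B v ((B v w)⁻¹ • w))) (by omega) _
        (B.restrict (perp B v ((B v w)⁻¹ • w))) (fun x => hB x.1) (nondeg_perp B hB hnd h1) rfl
      obtain ⟨k, hk⟩ := h3
      exact ⟨k + 1, by omega⟩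

end Cfsg.Agent.H727.GW
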